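import Mathlib
import Groth.Agent.Unibranch.Affine
import Groth.Agent.UnibranchEtale.Ring
import Groth.Agent.Hensel.BranchMore
import Groth.Agent.Hensel.Branches
import Groth.Agent.Hensel.Local

/-!
Smooth algebras over strictly henselian noetherian domains.
-/

set_option autoImplicit false
set_option linter.style.haveILetI false

universe u

open IsLocalRing

namespace Groth.Agent.SmoothGU

/-- A henselian local domain is unibranch. -/
theorem isUnibranch_of_henselian_domain (R : Type u) [CommRing R] [IsDomain R]
    [HenselianLocalRing R] : CAlg2.IsUnibranch R := by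
  have h0 : nilradical R = ⊥ := nilradical_eq_bot_iff.mpr inferInstance
  haveI hd : IsDomain (CAlg2.red R) := by
    rw [Ideal.Quotient.isDomain_iff_prime, h0]
    exact Ideal.isPrime_bot
  haveI : IsLocalRing (CAlg2.red R) := .of_surjective' _ Ideal.Quotient.mk_surjective
  haveI : HenselianLocalRing (CAlg2.red R) := Hensel.henselianLocalRing_finite R (CAlg2.red R)
  haveI : IsDomain (CAlg2.normRed R) := inferInstance
  exact ⟨hd, Hensel.isLocalRing_of_integral_domain (CAlg2.red R) (CAlg2.normRed R)⟩

theorem isGeomUnibranch_transfer {A : Type u} [CommRing A] (p : Ideal A) [p.IsPrime]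
    (S T : Type u) [CommRing S] [Algebra A S] [IsLocalization.AtPrime S p] [IsLocalRing S]
    [CommRing T] [Algebra A T] [IsLocalization.AtPrime T p] [IsLocalRing T]
    (h : CAlg2.IsGeomUnibranch S) : CAlg2.IsGeomUnibranch T := by
  obtain ⟨p₀, hp₀, hle, hmin, hG⟩ := Unibranch.exists_guAt_of_isGeomUnibranch p S h
  exact Unibranch.isGeomUnibranch_of_guAt p p₀ T hle hmin fun _ => hG

theorem smooth_over_strictlyHenselian_domain
    (R R' : Type u) [CommRing R] [IsDomain R] [HenselianLocalRing R]
    [IsSepClosed (ResidueField R)] [CommRing R'] [Algebra R R'] [Algebra.Smooth R R']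
    (p : Ideal R') [p.IsPrime] (hp : (maximalIdeal R).map (algebraMap R R') ≤ p) :
    IsDomain (Localization.AtPrime p) ∧ CAlg2.IsGeomUnibranch (Localization.AtPrime p) := by
  haveI : Algebra.IsSmoothAt R p := inferInstance
  obtain ⟨f, hf, hstd⟩ := Algebra.IsSmoothAt.exists_notMem_isStandardSmooth (R := R) p
  set B := Localization.Away f with hB
  obtain ⟨n, g, hg1, hg⟩ := RingHom.IsStandardSmooth.exists_etale_mvPolynomial
    (f := algebraMap R B) (RingHom.isStandardSmooth_algebraMap.mpr hstd)
  let σ : Type u := ULift.{u} (Fin n)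
  let e : MvPolynomial σ R ≃+* MvPolynomial (Fin n) R :=
    (MvPolynomial.renameEquiv R (Equiv.ulift : σ ≃ Fin n)).toRingEquiv
  let g' : MvPolynomial σ R →+* B := g.comp e.toRingHom
  have hg' : g'.Etale := RingHom.Etale.propertyIsLocal.respectsIso.2 g e hg
  have hC : g'.comp MvPolynomial.C = algebraMap R B := by
    rw [← hg1]
    ext r
    simp [g', e]
  letI := g'.toAlgebra
  haveI : Algebra.Etale (MvPolynomial σ R) B := hg'
  -- the prime of `B`
  have hd : Disjoint (Submonoid.powers f : Set R') p := by
    rw [Ideal.disjoint_powers_iff_notMem _ (Ideal.IsPrime.isRadical ‹_›)]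
    exact hf
  let q : Ideal B := p.map (algebraMap R' B)
  haveI hq : q.IsPrime :=
    IsLocalization.isPrime_of_isPrime_disjoint (Submonoid.powers f) B p ‹_› hd
  have hqp : q.comap (algebraMap R' B) = p :=
    IsLocalization.under_map_of_isPrime_disjoint (Submonoid.powers f) B ‹p.IsPrime› hd
  let P : Ideal (MvPolynomial σ R) := q.under (MvPolynomial σ R)
  haveI : q.LiesOver P := ⟨rfl⟩
  have hP : P.comap MvPolynomial.C = maximalIdeal R := by
    have : P.comap MvPolynomial.C = p.comap (algebraMap R R') := by
      change (q.comap g').comap MvPolynomial.C = _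
      rw [Ideal.comap_comap, hC, IsScalarTower.algebraMap_eq R R' B, ← Ideal.comap_comap, hqp]
    rw [this]
    exact ((maximalIdeal.isMaximal R).eq_of_le (Ideal.IsPrime.ne_top inferInstance)
      (Ideal.map_le_iff_le_comap.mp hp)).symm
  -- the local ring at the polynomial point
  haveI : IsLocalization.AtPrime R (maximalIdeal R) :=
    IsLocalization.self fun x (hx : x ∉ maximalIdeal R) =>
      (IsUnit.mem_submonoid_iff x).mpr (notMem_maximalIdeal.mp hx)
  obtain ⟨p₀, hp₀, hle, hmin, hG⟩ := Unibranch.exists_guAt_of_isGeomUnibranch (maximalIdeal R) R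
    (Hensel.isGeomUnibranch_of_isSepClosed R (isUnibranch_of_henselian_domain R))
  rw [← hP] at hle hmin hG
  have hA : CAlg2.IsGeomUnibranch (Localization.AtPrime P) :=
    Unibranch.isGeomUnibranch_localization_mvPolynomial P _ p₀ hle hmin hG
  haveI : IsDomain (Localization.AtPrime P) :=
    IsLocalization.isDomain_localization P.primeCompl_le_nonZeroDivisors
  obtain ⟨hdom, hgu⟩ := UnibranchEtale.atPrime_of_etale P q hA
  haveI hloc : IsLocalization.AtPrime (Localization.AtPrime q) p := by
    have h := IsLocalization.isLocalization_isLocalization_atPrime_isLocalization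
      (Submonoid.powers f) (Localization.AtPrime q) q
    have h2 : q.under R' = p := hqp
    simpa [h2] using h
  exact ⟨(IsLocalization.algEquiv p.primeCompl (Localization.AtPrime p) (Localization.AtPrime q)).toMulEquiv.isDomain _,
    isGeomUnibranch_transfer p (Localization.AtPrime q) (Localization.AtPrime p) hgu⟩

end Groth.Agent.SmoothGU
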