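import Mathlib
import Groth.Prelude.Def_Hensel
import Groth.Agent.Hensel.Henselization

/-!
Base change of a strict henselization to a strict henselization of the base.
-/

set_option autoImplicit false
set_option linter.style.haveILetI false

universe u

open IsLocalRing TensorProduct

namespace Groth.Agent.SmoothGU

variable {R R' : Type u} [CommRing R] [CommRing R'] [Algebra R R']

/-- If `S` is a strict henselization of the base local ring and `T` one of the local ring upstairs,
then `T` is a strict henselization of the local ring of `S ⊗ R'` at the point given by `T`. -/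
theorem exists_baseChange_point (q : Ideal R') [q.IsPrime] (p : Ideal R) [p.IsPrime]
    (hpq : p = q.comap (algebraMap R R'))
    (T : Type u) [CommRing T] [IsLocalRing T] [Algebra (Localization.AtPrime q) T]
    [IsLocalHom (algebraMap (Localization.AtPrime q) T)]
    [hT : Hensel.IsStrictHenselization (Localization.AtPrime q) T]
    (S : Type u) [CommRing S] [IsLocalRing S] [Algebra (Localization.AtPrime p) S]
    [IsLocalHom (algebraMap (Localization.AtPrime p) S)]
    [hS : Hensel.IsStrictHenselization (Localization.AtPrime p) S]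
    [Algebra R S] [IsScalarTower R (Localization.AtPrime p) S] :
    ∃ (q' : Ideal (S ⊗[R] R')) (_ : q'.IsPrime)
      (_ : (maximalIdeal S).map (algebraMap S (S ⊗[R] R')) ≤ q')
      (ψ : Localization.AtPrime q' →+* T),
      (∀ r : R', ψ (algebraMap (S ⊗[R] R') (Localization.AtPrime q') (1 ⊗ₜ r)) =
        algebraMap (Localization.AtPrime q) T (algebraMap R' (Localization.AtPrime q) r)) ∧
      (letI := ψ.toAlgebra
       ∃ _ : IsLocalHom (algebraMap (Localization.AtPrime q') T),
        Hensel.IsStrictHenselization (Localization.AtPrime q') T) := by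
  haveI : HenselianLocalRing T := hT.henselian
  haveI : HenselianLocalRing S := hS.henselian
  haveI := hT.isSepClosure.sep_closed
  haveI := hS.isSepClosure.separable
  haveI := hT.isSepClosure.separable
  let ρ := Localization.localRingHom p q (algebraMap R R') hpq
  haveI : IsLocalHom ρ := Localization.isLocalHom_localRingHom p q (algebraMap R R') hpq
  let f₀ : Localization.AtPrime p →+* T := (algebraMap (Localization.AtPrime q) T).comp ρ
  haveI hf₀ : IsLocalHom f₀ := RingHom.isLocalHom_comp _ ρ
  obtain ⟨τ, hτ⟩ : ∃ τ : ResidueField S →+* ResidueField T,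
      τ.comp (ResidueField.map (algebraMap (Localization.AtPrime p) S)) = ResidueField.map f₀ := by
    letI : Algebra (ResidueField (Localization.AtPrime p)) (ResidueField T) :=
      (ResidueField.map f₀).toAlgebra
    let ι : ResidueField S →ₐ[ResidueField (Localization.AtPrime p)] ResidueField T := IsSepClosed.lift
    refine ⟨ι.toRingHom, RingHom.ext fun x => ?_⟩
    obtain ⟨a, rfl⟩ := residue_surjective x
    exact ι.commutes (residue _ a)
  obtain ⟨φ, ⟨hφ, hφτ⟩, -⟩ := hS.universal T f₀ τ hτ
  let r' : R' →+* T := (algebraMap (Localization.AtPrime q) T).comp (algebraMap R' (Localization.AtPrime q))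
  letI : Algebra R T := (r'.comp (algebraMap R R')).toAlgebra
  let φA : S →ₐ[R] T := { φ with
    commutes' := fun a => by
      change φ (algebraMap R S a) = r' (algebraMap R R' a)
      rw [IsScalarTower.algebraMap_apply R (Localization.AtPrime p) S]
      exact (RingHom.congr_fun hφ _).trans
        (congrArg _ (Localization.localRingHom_to_map p q (algebraMap R R') hpq a)) }
  let rA : R' →ₐ[R] T := { r' with commutes' := fun a => rfl }
  let Ψ : S ⊗[R] R' →+* T := (Algebra.TensorProduct.productMap φA rA).toRingHom
  have hΨl : ∀ s : S, Ψ (algebraMap S (S ⊗[R] R') s) = φ s := fun s =>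
    Algebra.TensorProduct.productMap_left_apply φA rA s
  have hΨr : ∀ r : R', Ψ (1 ⊗ₜ r) = r' r := fun r =>
    Algebra.TensorProduct.productMap_right_apply φA rA r
  let q' : Ideal (S ⊗[R] R') := (maximalIdeal T).comap Ψ
  haveI : q'.IsPrime := Ideal.IsPrime.comap _
  have hunit : ∀ y : q'.primeCompl, IsUnit (Ψ y) := fun y => notMem_maximalIdeal.mp y.2
  let ψ : Localization.AtPrime q' →+* T := IsLocalization.lift hunit
  have hψ : ∀ z, ψ (algebraMap _ (Localization.AtPrime q') z) = Ψ z := IsLocalization.lift_eq hunit
  refine ⟨q', inferInstance, Ideal.map_le_iff_le_comap.mpr fun s hs => ?_, ψ,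
    fun r => (hψ _).trans (hΨr r), ?_⟩
  · change Ψ (algebraMap S (S ⊗[R] R') s) ∈ maximalIdeal T
    rw [hΨl, ← residue_eq_zero_iff, hφτ, (residue_eq_zero_iff s).mpr hs, map_zero]
  letI := ψ.toAlgebra
  haveI hloc : IsLocalHom (algebraMap (Localization.AtPrime q') T) := ⟨fun x hx => by
    obtain ⟨a, s, rfl⟩ := IsLocalization.exists_mk'_eq q'.primeCompl x
    rw [IsLocalization.AtPrime.isUnit_mk'_iff]
    intro ha
    have h1 : IsUnit (Ψ a) := by
      have h2 : ψ (IsLocalization.mk' _ a s) * Ψ s = Ψ a := by
        rw [← hψ, ← hψ, ← map_mul, IsLocalization.mk'_spec]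
      rw [← h2]
      exact hx.mul (hunit s)
    exact (mem_maximalIdeal _).mp ha h1⟩
  -- the map from the local ring upstairs
  have hqq : q = q'.comap (Algebra.TensorProduct.includeRight : R' →ₐ[R] S ⊗[R] R').toRingHom := by
    ext r
    change r ∈ q ↔ Ψ (1 ⊗ₜ r) ∈ maximalIdeal T
    rw [hΨr, ← Localization.AtPrime.comap_maximalIdeal (I := q), Ideal.mem_comap]
    exact ⟨fun h => (mem_maximalIdeal _).mpr (map_nonunit (algebraMap _ T) _ h),
      fun h => (mem_maximalIdeal _).mpr fun hu => (mem_maximalIdeal _).mp h (hu.map (algebraMap (Localization.AtPrime q) T))⟩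
  let ρ' := Localization.localRingHom q q' _ hqq
  have hρ' : (algebraMap (Localization.AtPrime q') T).comp ρ' = algebraMap (Localization.AtPrime q) T := by
    refine IsLocalization.ringHom_ext q.primeCompl (RingHom.ext fun r => ?_)
    change ψ (ρ' (algebraMap R' _ r)) = _
    rw [Localization.localRingHom_to_map]
    exact (hψ _).trans (hΨr r)
  haveI : IsLocalHom ρ' := Localization.isLocalHom_localRingHom q q' _ hqq
  refine ⟨hloc, ⟨hT.henselian, ⟨hT.isSepClosure.sep_closed, ?_⟩, fun U _ _ g _ σ hσ => ?_⟩⟩
  · letI : Algebra (ResidueField (Localization.AtPrime q)) (ResidueField (Localization.AtPrime q')) :=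
      (ResidueField.map ρ').toAlgebra
    haveI : IsScalarTower (ResidueField (Localization.AtPrime q)) (ResidueField (Localization.AtPrime q'))
        (ResidueField T) := IsScalarTower.of_algebraMap_eq fun x => by
      obtain ⟨x, rfl⟩ := residue_surjective x
      exact congrArg (residue T) (RingHom.congr_fun hρ' x).symm
    exact Algebra.isSeparable_tower_top_of_isSeparable (ResidueField (Localization.AtPrime q))
      (ResidueField (Localization.AtPrime q')) (ResidueField T)
  let g₀ : Localization.AtPrime q →+* U := g.comp ρ'
  haveI : IsLocalHom g₀ := RingHom.isLocalHom_comp g ρ'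
  have hres : ∀ z, residue U (g z) = σ (residue T (ψ z)) := fun z => by
    have := RingHom.congr_fun hσ (residue _ z)
    rw [RingHom.comp_apply, ResidueField.map_residue, ResidueField.map_residue] at this
    exact this.symm
  have hσ' : σ.comp (ResidueField.map (algebraMap (Localization.AtPrime q) T)) = ResidueField.map g₀ := by
    refine RingHom.ext fun x => ?_
    obtain ⟨x, rfl⟩ := residue_surjective x
    rw [RingHom.comp_apply, ResidueField.map_residue, ResidueField.map_residue, ← hρ']
    exact (hres (ρ' x)).symm
  obtain ⟨h, ⟨hh, hhσ⟩, huniq⟩ := hT.universal U g₀ σ hσ'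
  refine ⟨h, ⟨?_, hhσ⟩, fun h' ⟨h1, h2⟩ => huniq h' ⟨?_, h2⟩⟩
  · -- agreement on `S`
    let a₁ : S →+* U := h.comp φ
    let a₂ : S →+* U := g.comp ((algebraMap (S ⊗[R] R') (Localization.AtPrime q')).comp (algebraMap S (S ⊗[R] R')))
    let b : Localization.AtPrime p →+* U := h.comp f₀
    haveI : IsLocalHom f₀ := hf₀
    haveI : IsLocalHom h := ⟨fun x hx => by
      by_contra hu
      exact (residue_ne_zero_iff_isUnit (h x)).mpr hx (by
        rw [hhσ, (residue_eq_zero_iff x).mpr ((mem_maximalIdeal x).mpr hu), map_zero])⟩
    haveI : IsLocalHom b := RingHom.isLocalHom_comp h f₀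
    have hb : (σ.comp τ).comp (ResidueField.map (algebraMap (Localization.AtPrime p) S)) = ResidueField.map b := by
      rw [RingHom.comp_assoc, hτ]
      refine RingHom.ext fun x => ?_
      obtain ⟨x, rfl⟩ := residue_surjective x
      rw [RingHom.comp_apply, ResidueField.map_residue, ResidueField.map_residue]
      exact (hhσ _).symm
    obtain ⟨u, -, hu⟩ := hS.universal U b (σ.comp τ) hb
    have e1 : a₁ = u := hu _ ⟨by rw [RingHom.comp_assoc, hφ], fun s => by
      change residue U (h (φ s)) = σ (τ (residue S s))
      rw [hhσ, hφτ]⟩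
    have e2 : a₂ = u := hu _ ⟨IsLocalization.ringHom_ext p.primeCompl (RingHom.ext fun a => by
        change g (algebraMap _ _ (algebraMap S (S ⊗[R] R') (algebraMap (Localization.AtPrime p) S (algebraMap R _ a)))) =
          h (algebraMap (Localization.AtPrime q) T (ρ (algebraMap R _ a)))
        rw [← IsScalarTower.algebraMap_apply R (Localization.AtPrime p) S, Localization.localRingHom_to_map]
        refine Eq.trans ?_ (RingHom.congr_fun hh _).symm
        change _ = g (ρ' (algebraMap R' _ (algebraMap R R' a)))
        rw [Localization.localRingHom_to_map]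
        refine congrArg (fun z => g (algebraMap _ _ z)) ?_
        exact (IsScalarTower.algebraMap_apply R S (S ⊗[R] R') a).symm.trans
          ((Algebra.TensorProduct.includeRight : R' →ₐ[R] S ⊗[R] R').commutes a).symm),
      fun s => by
        change residue U (g (algebraMap _ _ (algebraMap S (S ⊗[R] R') s))) = σ (τ (residue S s))
        rw [hres, hψ, hΨl, hφτ]⟩
    refine IsLocalization.ringHom_ext q'.primeCompl (RingHom.ext fun z => ?_)
    change h (ψ (algebraMap _ _ z)) = g (algebraMap _ _ z)
    rw [hψ]
    induction z using TensorProduct.induction_on with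
    | zero => simp
    | tmul s r =>
      have e : (s ⊗ₜ[R] r : S ⊗[R] R') = algebraMap S (S ⊗[R] R') s * (1 ⊗ₜ r) := by
        rw [Algebra.TensorProduct.algebraMap_apply, Algebra.TensorProduct.tmul_mul_tmul, Algebra.algebraMap_self, RingHom.id_apply, mul_one, one_mul]
      rw [e, map_mul, map_mul, map_mul, map_mul, hΨl, hΨr]
      congr 1
      · exact RingHom.congr_fun (e1.trans e2.symm) s
      · refine (RingHom.congr_fun hh (algebraMap R' _ r)).trans ?_
        change g (ρ' (algebraMap R' _ r)) = _
        rw [Localization.localRingHom_to_map]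
        rfl
    | add x y hx hy => simp only [map_add, hx, hy]
  · rw [← hρ', ← RingHom.comp_assoc, h1]

end Groth.Agent.SmoothGU
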